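import Cfsg.Agent.U62Rec.Mod
import Cfsg.Agent.U62Three.K.Extra

/-!
# Coordinates on an extraspecial subgroup from eight elements

The bit pattern of an element is read off from its commutators with the eight elements; the elements of the
normaliser that centralise the central involution act by codes.
-/

set_option autoImplicit false
set_option linter.unusedSectionVars false

open Subgroup
open scoped commutatorElement

namespace Cfsg.Agent.U62Three.K.Co

open U62Rec

universe u

/-- The values of the form on the unit vectors. -/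
def bitsOf (v : Fin 256) : Fin 8 → Bool := fun k => fv v (2 ^ (k : ℕ))

theorem bitsOf_inj : Function.Injective bitsOf := by
  intro a b h
  have hk : ∀ k : Fin 8, fv ((a : ℕ) ^^^ b) (2 ^ (k : ℕ)) = false := fun k => by
    rw [fv_xor, show fv (a : ℕ) (2 ^ (k : ℕ)) = fv (b : ℕ) (2 ^ (k : ℕ)) from congrFun h k,
      Bool.xor_self]
  apply Fin.ext
  by_contra hne
  obtain ⟨w, hw, e⟩ := fv_nondeg _ (Nat.xor_lt_two_pow (n := 8) a.2 b.2) (fun h => hne (Nat.xor_eq_zero_iff.1 h))
  simp only [List.mem_cons, List.not_mem_nil, or_false] at hw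
  rcases hw with rfl | rfl | rfl | rfl | rfl | rfl | rfl | rfl
  exacts [absurd ((hk 0).symm.trans e) (by simp), absurd ((hk 1).symm.trans e) (by simp),
    absurd ((hk 2).symm.trans e) (by simp), absurd ((hk 3).symm.trans e) (by simp),
    absurd ((hk 4).symm.trans e) (by simp), absurd ((hk 5).symm.trans e) (by simp),
    absurd ((hk 6).symm.trans e) (by simp), absurd ((hk 7).symm.trans e) (by simp)]

/-- Functionals are given by vectors. -/
noncomputable def bitsEquiv : Fin 256 ≃ (Fin 8 → Bool) :=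
  Equiv.ofBijective bitsOf ((Fintype.bijective_iff_injective_and_card _).2 ⟨bitsOf_inj,
    by rw [Fintype.card_fun, Fintype.card_fin, Fintype.card_fin, Fintype.card_bool]; norm_num⟩)

theorem unit_step : ∀ v < 256, v = 0 ∨ ∃ k : Fin 8, v ^^^ 2 ^ (k : ℕ) < v := by decide +kernel

variable {G : Type u} [Group G]

open scoped Classical in
/-- The coordinates of an element. -/
noncomputable def co (b : Fin 8 → G) (a : G) : ℕ :=
  (bitsEquiv.symm fun k => decide ¬Commute a (b k) : Fin 256)

/-- The code of the action of an element. -/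
noncomputable def cd (b : Fin 8 → G) (h : G) : ℕ :=
  pack (co b (h * b 0 * h⁻¹)) (co b (h * b 1 * h⁻¹)) (co b (h * b 2 * h⁻¹)) (co b (h * b 3 * h⁻¹))
    (co b (h * b 4 * h⁻¹)) (co b (h * b 5 * h⁻¹)) (co b (h * b 6 * h⁻¹)) (co b (h * b 7 * h⁻¹))

theorem co_lt (b : Fin 8 → G) (a : G) : co b a < 256 := Fin.isLt _

theorem fv_co (b : Fin 8 → G) (a : G) (k : Fin 8) :
    fv (co b a) (2 ^ (k : ℕ)) = true ↔ ¬Commute a (b k) := by
  classical
  have h := congrFun (bitsEquiv.apply_symm_apply fun k => decide ¬Commute a (b k)) k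
  show bitsOf (bitsEquiv.symm fun k => decide ¬Commute a (b k)) k = true ↔ _
  change bitsOf _ k = _ at h
  rw [h]
  simp

theorem co_unique {b : Fin 8 → G} {a : G} {v : ℕ} (hv : v < 256)
    (h : ∀ k : Fin 8, fv v (2 ^ (k : ℕ)) = true ↔ ¬Commute a (b k)) : co b a = v := by
  have : (⟨co b a, co_lt b a⟩ : Fin 256) = ⟨v, hv⟩ := bitsOf_inj <| funext fun k => by
    show fv (co b a) _ = fv v _
    rw [Bool.eq_iff_iff]
    exact (fv_co b a k).trans (h k).symm
  exact congrArg Fin.val this

theorem isCode_cd (b : Fin 8 → G) (h : G) : IsCode (cd b h) :=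
  isCode_pack (co_lt _ _) (co_lt _ _) (co_lt _ _) (co_lt _ _) (co_lt _ _) (co_lt _ _) (co_lt _ _) (co_lt _ _)

theorem app_cd (b : Fin 8 → G) (h : G) (k : Fin 8) : app (cd b h) (2 ^ (k : ℕ)) = co b (h * b k * h⁻¹) := by
  obtain ⟨e0, e1, e2, e3, e4, e5, e6, e7⟩ := byte_pack (co_lt b (h * b 0 * h⁻¹))
    (co_lt b (h * b 1 * h⁻¹)) (co_lt b (h * b 2 * h⁻¹)) (co_lt b (h * b 3 * h⁻¹))
    (co_lt b (h * b 4 * h⁻¹)) (co_lt b (h * b 5 * h⁻¹)) (co_lt b (h * b 6 * h⁻¹))
    (co_lt b (h * b 7 * h⁻¹))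
  obtain ⟨u0, u1, u2, u3, u4, u5, u6, u7⟩ := app_unit (cd b h)
  fin_cases k
  · exact u0.trans e0
  · exact u1.trans e1
  · exact u2.trans e2
  · exact u3.trans e3
  · exact u4.trans e4
  · exact u5.trans e5
  · exact u6.trans e6
  · exact u7.trans e7

/-- Eight elements with the standard squares and commutators. -/
structure Bas (t : G) (K : Subgroup G) (b : Fin 8 → G) : Prop where
  ot : t ≠ 1
  t2 : t * t = 1
  cover : Cover t K
  card : Nat.card ↥K = 512
  mem : ∀ k, b k ∈ K
  sq : ∀ k : Fin 8, b k * b k = t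
  comm : ∀ i j : Fin 8, Commute (b i) (b j) ↔ fv (2 ^ (i : ℕ)) (2 ^ (j : ℕ)) = false

namespace Bas

variable [Finite G] {t : G} {K : Subgroup G} {b : Fin 8 → G} (B : Bas t K b)
include B

theorem cases_conj {u v : G} (hu : u ∈ K) (hv : v ∈ K) :
    (Commute u v ∧ u * v * u⁻¹ = v) ∨ (¬Commute u v ∧ u * v * u⁻¹ = t * v) := by
  by_cases h : Commute u v
  · exact Or.inl ⟨h, by rw [h.eq, mul_inv_cancel_right]⟩
  refine Or.inr ⟨h, ?_⟩
  rcases B.cover.comm_cases B.t2 hu hv with e | e
  · exact absurd (commutatorElement_eq_one_iff_mul_comm.1 e) h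
  · rw [commutatorElement_def] at e
    exact mul_inv_eq_iff_eq_mul.1 e

theorem commute_mul {a c x : G} (ha : a ∈ K) (hc : c ∈ K) (hx : x ∈ K) :
    Commute (a * c) x ↔ (Commute a x ↔ Commute c x) := by
  have e1 : a * c * x * (a * c)⁻¹ = a * (c * x * c⁻¹) * a⁻¹ := by group
  have haz : a * (t * x) * a⁻¹ = t * (a * x * a⁻¹) := by
    rw [← mul_assoc, (B.cover.central a ha).eq]; group
  have iff1 : Commute (a * c) x ↔ a * c * x * (a * c)⁻¹ = x := by
    rw [mul_inv_eq_iff_eq_mul]; rfl
  have hzx : t * x ≠ x := fun e => B.ot (mul_eq_right.1 e)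
  rw [iff1, e1]
  rcases B.cases_conj hc hx with ⟨hc', e⟩ | ⟨hc', e⟩ <;>
    rcases B.cases_conj ha hx with ⟨ha', e'⟩ | ⟨ha', e'⟩ <;> rw [e]
  · simp [e', ha', hc']
  · simp [e', ha', hc', hzx]
  · rw [haz, e']; simp [ha', hc', hzx]
  · rw [haz, e', ← mul_assoc, B.t2, one_mul]; simp [ha', hc']

theorem co_mul {a c : G} (ha : a ∈ K) (hc : c ∈ K) : co b (a * c) = co b a ^^^ co b c := by
  refine co_unique (Nat.xor_lt_two_pow (n := 8) (co_lt b a) (co_lt b c)) fun k => ?_
  rw [B.commute_mul ha hc (B.mem k), fv_xor]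
  have h1 := fv_co b a k
  have h2 := fv_co b c k
  cases e1 : fv (co b a) (2 ^ (k : ℕ)) <;> cases e2 : fv (co b c) (2 ^ (k : ℕ)) <;>
    simp [e1, e2] at h1 h2 ⊢ <;> tauto

theorem co_b (j : Fin 8) : co b (b j) = 2 ^ (j : ℕ) := by
  refine co_unique (Nat.pow_lt_pow_right (a := 2) (by norm_num) j.2) fun k => ?_
  rw [B.comm j k]
  simp

theorem co_one : co b (1 : G) = 0 := by
  have h := B.co_mul (one_mem K) (one_mem K)
  rw [mul_one, Nat.xor_self] at h
  exact h

theorem co_t : co b t = 0 := co_unique (by norm_num) fun k => by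
  rw [fv_comm, fv_zero]
  simp only [Bool.false_eq_true, false_iff, not_not]
  exact (B.cover.central _ (B.mem k)).symm

theorem co_inv {a : G} (ha : a ∈ K) : co b a⁻¹ = co b a := by
  have h := B.co_mul (inv_mem ha) ha
  rw [inv_mul_cancel, B.co_one] at h
  exact Nat.xor_eq_zero_iff.1 h.symm

theorem co_surj : ∀ v < 256, ∃ a ∈ K, co b a = v := by
  intro v
  induction v using Nat.strong_induction_on with
  | _ v ih =>
    intro hv
    rcases unit_step v hv with rfl | ⟨k, hk⟩
    · exact ⟨1, one_mem _, B.co_one⟩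
    · obtain ⟨a, ha, e⟩ := ih _ hk (hk.trans hv)
      refine ⟨a * b k, mul_mem ha (B.mem k), ?_⟩
      rw [B.co_mul ha (B.mem k), e, B.co_b, Nat.xor_assoc, Nat.xor_self, Nat.xor_zero]

theorem co_eq {a : G} (ha : a ∈ K) (h : co b a = 0) : a = 1 ∨ a = t := by
  classical
  let N : Subgroup G :=
    { carrier := {a | a ∈ K ∧ co b a = 0}
      one_mem' := ⟨one_mem _, B.co_one⟩
      mul_mem' := fun {x y} hx hy =>
        ⟨mul_mem hx.1 hy.1, by rw [B.co_mul hx.1 hy.1, hx.2, hy.2]; rfl⟩
      inv_mem' := fun {x} hx => ⟨inv_mem hx.1, by rw [B.co_inv hx.1, hx.2]⟩ }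
  have hcard := card_fibres (co b) K N (fun x hx => hx.1) fun x hx y hy => by
    constructor
    · intro e
      exact ⟨mul_mem (inv_mem hx) hy, by rw [B.co_mul (inv_mem hx) hy, B.co_inv hx, e, Nat.xor_self]⟩
    · rintro ⟨-, e⟩
      rw [B.co_mul (inv_mem hx) hy, B.co_inv hx, Nat.xor_eq_zero_iff] at e
      exact e
  have himg : co b '' (K : Set G) = ((Finset.range 256 : Finset ℕ) : Set ℕ) := by
    ext v
    simp only [Set.mem_image, Finset.coe_range, Set.mem_Iio]
    exact ⟨fun ⟨x, _, e⟩ => e ▸ co_lt b x, fun hv => B.co_surj v hv⟩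
  rw [B.card, himg, Set.ncard_coe_finset, Finset.card_range] at hcard
  have hN : ((N : Subgroup G) : Set G).ncard = 2 := by
    rw [← Nat.card_coe_set_eq]
    show Nat.card ↥N = 2
    omega
  have hsub : ({1, t} : Set G) ⊆ (N : Set G) := by
    rintro x (rfl | rfl)
    exacts [one_mem N, ⟨B.cover.mem, B.co_t⟩]
  have heq := Set.eq_of_subset_of_ncard_le hsub
    (by rw [hN, Set.ncard_pair (Ne.symm B.ot)]) (Set.toFinite _)
  have : a ∈ ({1, t} : Set G) := heq ▸ (show a ∈ N from ⟨ha, h⟩)
  simpa using this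

theorem co_inj {a c : G} (ha : a ∈ K) (hc : c ∈ K) (h : co b a = co b c) : a⁻¹ * c ∈ zpowers t := by
  rcases B.co_eq (mul_mem (inv_mem ha) hc)
    (by rw [B.co_mul (inv_mem ha) hc, B.co_inv ha, h, Nat.xor_self]) with e | e <;> rw [e]
  · exact one_mem _
  · exact mem_zpowers t

/-- Induction on the elements of the subgroup. -/
theorem induct {P : G → Prop} (h1 : P 1) (ht : P t) (hb : ∀ k, P (b k))
    (hm : ∀ x ∈ K, ∀ y ∈ K, P x → P y → P (x * y)) : ∀ a ∈ K, P a := by
  suffices key : ∀ v, ∀ a ∈ K, co b a = v → P a from fun a ha => key _ a ha rfl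
  intro v
  induction v using Nat.strong_induction_on with
  | _ v ih =>
    intro a ha e
    rcases unit_step v (e ▸ co_lt b a) with rfl | ⟨k, hk⟩
    · rcases B.co_eq ha e with rfl | rfl
      exacts [h1, ht]
    · have hmem : a * (b k)⁻¹ ∈ K := mul_mem ha (inv_mem (B.mem k))
      have := hm _ hmem _ (B.mem k) (ih _ hk _ hmem (by
        rw [B.co_mul ha (inv_mem (B.mem k)), e, B.co_inv (B.mem k), B.co_b])) (hb k)
      rwa [inv_mul_cancel_right] at this

theorem commute_iff {a c : G} (ha : a ∈ K) (hc : c ∈ K) :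
    Commute a c ↔ fv (co b a) (co b c) = false := by
  revert c hc
  refine fun {c} hc => ?_
  refine B.induct (P := fun c => Commute a c ↔ fv (co b a) (co b c) = false)
    ?_ ?_ (fun k => ?_) (fun x hx y hy hX hY => ?_) c hc
  · rw [B.co_one, fv_zero]; simp
  · rw [B.co_t, fv_zero]
    simp only [iff_true]
    exact B.cover.central a ha
  · rw [B.co_b, ← Bool.not_eq_true, fv_co]
    simp
  · rw [Commute.symm_iff, B.commute_mul hx hy ha, Commute.symm_iff, hX, Commute.symm_iff, hY,
      B.co_mul hx hy, fv_xor']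
    cases fv (co b a) (co b x) <;> cases fv (co b a) (co b y) <;> simp

theorem sq_all (hq : ∀ k : Fin 8, qv 255 (2 ^ (k : ℕ)) = true) {a : G} (ha : a ∈ K) :
    a * a = if qv 255 (co b a) then t else 1 := by
  refine B.induct (P := fun a => a * a = if qv 255 (co b a) then t else 1)
    ?_ ?_ (fun k => ?_) (fun x hx y hy hX hY => ?_) a ha
  · rw [B.co_one, qv_zero]; simp
  · rw [B.co_t, qv_zero]; simp [B.t2]
  · rw [B.co_b, hq k]; simpa using B.sq k
  · have hxy : y * x = x * y * (if fv (co b x) (co b y) then t else 1) := by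
      cases hf : fv (co b x) (co b y) with
      | false => simp [((B.commute_iff hx hy).2 hf).eq]
      | true =>
        simp only [if_true]
        rcases B.cases_conj hy hx with ⟨h, -⟩ | ⟨-, e⟩
        · rw [(B.commute_iff hx hy).1 h.symm] at hf; simp at hf
        · rw [mul_inv_eq_iff_eq_mul] at e
          rw [e, mul_assoc t x, ← (B.cover.central _ (mul_mem hx hy)).eq]
    rw [B.co_mul hx hy, qv_xor]
    have e : x * y * (x * y) = x * x * (y * y) * (if fv (co b x) (co b y) then t else 1) := by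
      calc x * y * (x * y) = x * (y * x) * y := by group
        _ = x * (x * y * (if fv (co b x) (co b y) then t else 1)) * y := by rw [hxy]
        _ = _ := by
          cases fv (co b x) (co b y)
          · simp [mul_assoc]
          · simp only [if_true, mul_assoc]
            rw [(B.cover.central y hy).symm.eq]
    rw [e, hX, hY]
    cases qv 255 (co b x) <;> cases qv 255 (co b y) <;> cases fv (co b x) (co b y) <;>
      simp [B.t2, mul_assoc]

theorem act {h : G} (ht : Commute h t) (hn : ∀ x ∈ K, h * x * h⁻¹ ∈ K) {a : G} (ha : a ∈ K) :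
    co b (h * a * h⁻¹) = app (cd b h) (co b a) := by
  refine B.induct (P := fun a => co b (h * a * h⁻¹) = app (cd b h) (co b a))
    ?_ ?_ (fun k => ?_) (fun x hx y hy hX hY => ?_) a ha
  · rw [mul_one, mul_inv_cancel, B.co_one, app_zero]
  · rw [ht.eq, mul_inv_cancel_right, B.co_t, app_zero]
  · rw [B.co_b, app_cd]
  · rw [show h * (x * y) * h⁻¹ = h * x * h⁻¹ * (h * y * h⁻¹) by group,
      B.co_mul (hn x hx) (hn y hy), hX, hY, B.co_mul hx hy, app_xor]

theorem cd_mul {g h : G} (gt : Commute g t) (gn : ∀ x ∈ K, g * x * g⁻¹ ∈ K) (ht : Commute h t)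
    (hn : ∀ x ∈ K, h * x * h⁻¹ ∈ K) : cd b (g * h) = U62Rec.cmp (cd b g) (cd b h) := by
  have hgh : ∀ x ∈ K, g * h * x * (g * h)⁻¹ ∈ K := fun x hx => by
    rw [show g * h * x * (g * h)⁻¹ = g * (h * x * h⁻¹) * g⁻¹ by group]
    exact gn _ (hn x hx)
  refine code_ext (isCode_cd _ _) (isCode_cmp _ _) fun v hv => ?_
  obtain ⟨a, ha, rfl⟩ := B.co_surj v hv
  rw [app_cmp, ← B.act (gt.mul_left ht) hgh ha, ← B.act ht hn ha, ← B.act gt gn (hn a ha)]
  congr 1
  group

theorem cd_ker {h : G} (ht : Commute h t) (hn : ∀ x ∈ K, h * x * h⁻¹ ∈ K)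
    (hself : centralizer ({t} : Set G) ⊓ centralizer (K : Set G) ≤ K) : cd b h = idm ↔ h ∈ K := by
  constructor
  · intro e
    classical
    have hk : ∀ k, (b k)⁻¹ * (h * b k * h⁻¹) ∈ zpowers t := fun k =>
      B.co_inj (B.mem k) (hn _ (B.mem k)) (by rw [B.act ht hn (B.mem k), e, app_idm (co_lt _ _)])
    -- an element of the subgroup with the same effect
    obtain ⟨c, hc, hcv⟩ := B.co_surj
      ((bitsEquiv.symm fun k => decide ¬Commute h (b k) : Fin 256) : ℕ) (Fin.isLt _)
    have hcomm : ∀ k, Commute (c⁻¹ * h) (b k) := fun k => by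
      have hiff : ¬Commute c (b k) ↔ ¬Commute h (b k) := by
        rw [← fv_co b c k, hcv]
        exact fv_co b h k
      have h2 : h * b k * h⁻¹ = b k ∨ h * b k * h⁻¹ = t * b k := by
        have := B.cover.central _ (B.mem k)
        obtain ⟨n, hn'⟩ := mem_zpowers_iff.1 (hk k)
        have e2 : t ^ (2 : ℤ) = 1 := by rw [zpow_two, B.t2]
        rcases Int.even_or_odd' n with ⟨m, rfl | rfl⟩
        · rw [zpow_mul, e2, one_zpow] at hn'
          exact Or.inl (inv_mul_eq_one.1 hn'.symm).symm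
        · rw [zpow_add, zpow_mul, e2, one_zpow, one_mul, zpow_one] at hn'
          refine Or.inr ?_
          rw [← this.eq]
          exact (inv_mul_eq_iff_eq_mul.1 hn'.symm)
      have hC : Commute h (b k) ↔ h * b k * h⁻¹ = b k := mul_inv_eq_iff_eq_mul.symm
      rw [commute_iff_eq]
      refine mul_inv_eq_iff_eq_mul.1 ?_
      calc c⁻¹ * h * b k * (c⁻¹ * h)⁻¹ = c⁻¹ * (h * b k * h⁻¹) * c := by group
        _ = b k := by
          rcases B.cases_conj hc (B.mem k) with ⟨hcc, e'⟩ | ⟨hcc, e'⟩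
          · have : h * b k * h⁻¹ = b k := hC.1 (not_not.1 fun hh => hiff.2 hh hcc)
            rw [this]
            calc c⁻¹ * b k * c = c⁻¹ * (c * b k * c⁻¹) * c := by rw [e']
              _ = b k := by group
          · have : h * b k * h⁻¹ = t * b k := h2.resolve_left fun hh => hiff.1 hcc (hC.2 hh)
            rw [this, ← e']
            group
    have hall : ∀ x ∈ K, Commute (c⁻¹ * h) x := B.induct (P := fun x => Commute (c⁻¹ * h) x)
      (Commute.one_right _) ((B.cover.central c hc).inv_left.mul_left ht) hcomm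
      fun x _ y _ hX hY => hX.mul_right hY
    have := hself (show c⁻¹ * h ∈ centralizer ({t} : Set G) ⊓ centralizer (K : Set G) from
      ⟨mem_centralizer_singleton_iff.2 ((B.cover.central c hc).inv_left.mul_left ht).eq,
        mem_centralizer_iff.2 fun x hx => ((hall x hx).eq).symm⟩)
    simpa using mul_mem hc this
  · intro hh
    refine code_ext (isCode_cd _ _) isCode_idm fun v hv => ?_
    obtain ⟨a, ha, rfl⟩ := B.co_surj v hv
    rw [← B.act ht hn ha, app_idm (co_lt _ _), B.co_mul (mul_mem hh ha) (inv_mem hh), B.co_mul hh ha,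
      B.co_inv hh, Nat.xor_comm (co b h), Nat.xor_assoc, Nat.xor_self, Nat.xor_zero]

end Bas

end Cfsg.Agent.U62Three.K.Co
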