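import Cfsg.Agent.U62Three.K.Z.Transport

/-!
# The four quaternion groups of a prepared centraliser
-/

set_option autoImplicit false
set_option linter.unusedSectionVars false
set_option maxRecDepth 100000

open Subgroup
open scoped commutatorElement

namespace Cfsg.Agent.U62Three.K.Co

universe u

variable {G : Type u} [Group G] [Finite G] {z : G} {Q : Subgroup G} {D : Facts z Q} {K Z3 L : Subgroup G}
  (P : Prep D K Z3 L) (H : Hyp z Q)

include P

theorem L_le : L ≤ centralizer ({D.t 0} : Set G) := fun x hx => by rw [P.hL] at hx; exact hx.1.1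

theorem L_norm {l : G} (hl : l ∈ L) {x : G} (hx : x ∈ K) : l * x * l⁻¹ ∈ K := by
  rw [P.hL] at hl
  exact (mem_normalizer_iff.1 hl.1.2 x).1 hx

theorem L_comm {l : G} (hl : l ∈ L) : Commute l (D.t 0) :=
  mem_centralizer_singleton_iff.1 (L_le P hl)

theorem nt_le : nt D ≤ L := P.normJ

omit P in
theorem pt_mem_J (D : Facts z Q) (k : Fin 4) : D.pt k ∈ D.F.J := mul_mem (j_mem D.F _ _) (j_mem D.F _ _)

omit P in
theorem pt_comm_t (D : Facts z Q) (k : Fin 4) : Commute (D.pt k) (D.t 0) := by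
  have key : ∀ k : Fin 4, Equiv.swap (0 : Fin 6) 1 (Fin.natAdd 2 k) = Fin.natAdd 2 k := by decide +kernel
  have e : D.t 0 * D.pt k * (D.t 0)⁻¹ = D.pt k := by
    show D.t 0 * (D.F.j 0 _ * D.F.j 1 _) * (D.t 0)⁻¹ = _
    rw [← conj_mul, D.t_zero, D.t_zero, key, Equiv.swap_apply_left, Equiv.swap_apply_right,
      (frame_commute (j_mem D.F _ _) (j_mem D.F _ _)).eq]
    rfl
  exact (mul_inv_eq_iff_eq_mul.1 e).symm

theorem pt_mem_L (k : Fin 4) : D.pt k ∈ L :=
  P.centPt k ⟨mem_centralizer_singleton_iff.2 rfl, mem_centralizer_singleton_iff.2 (pt_comm_t D k).eq⟩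

omit P in
theorem pt_cube (D : Facts z Q) (k : Fin 4) : D.pt k * D.pt k * D.pt k = 1 := J_cube (pt_mem_J D k)

omit P in
theorem pt_prod (D : Facts z Q) : D.pt 0 * D.pt 1 * D.pt 2 * D.pt 3 = 1 := by
  have h : ∀ k : Fin 4, D.pt k = el D.F (vd 0 (up k) + vd 1 (up k)) := fun k => by
    rw [← el_mul, el_vd, el_vd]; rfl
  have key : wsum (vd 0 (up 0) + vd 1 (up 0) + (vd 0 (up 1) + vd 1 (up 1)) + (vd 0 (up 2) + vd 1 (up 2)) +
        (vd 0 (up 3) + vd 1 (up 3))) = 0 ∧
      Same (vd 0 (up 0) + vd 1 (up 0) + (vd 0 (up 1) + vd 1 (up 1)) + (vd 0 (up 2) + vd 1 (up 2)) +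
        (vd 0 (up 3) + vd 1 (up 3))) 0 := by decide +kernel
  rw [h, h, h, h, el_mul, el_mul, el_mul, ← el_zero D.F]
  exact (el_eq_iff D.F key.1 (by simp [wsum])).2 key.2

theorem mv_L (k : Fin 4) : mv D k ∈ L := nt_le P (mv_mem D k)

omit P in
theorem mv_conj (D : Facts z Q) (k : Fin 4) {x : G} (hx : Commute x (D.pt k)) :
    Commute ((mv D k)⁻¹ * x * mv D k) z := by
  have h := hx.map (MulAut.conj (mv D k)⁻¹).toMonoidHom
  simp only [MulEquiv.coe_toMonoidHom, MulAut.conj_apply, inv_inv] at h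
  rwa [show (mv D k)⁻¹ * D.pt k * mv D k = z by rw [← mv_z D k]; group] at h

theorem Qi1_L {w : G} (hw : w ∈ D.Qi 1) (H : Hyp z Q) : w ∈ L := by
  refine P.centPt 0 ⟨?_, mem_centralizer_singleton_iff.2 (tQ1 D hw).symm.eq⟩
  rw [pt_zero]
  exact mem_centralizer_singleton_iff.2 (z_comm_Q H (D.le 1 hw)).symm.eq

/-- What commutes with `z` in `K` is the first quaternion group. -/
theorem K_cent_z (H : Hyp z Q) {x : G} (hx : x ∈ K) (hxz : Commute x z) : x ∈ D.R 0 := by
  have hxt : Commute x (D.t 0) := mem_centralizer_singleton_iff.1 (P.le hx)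
  obtain ⟨q, hq, r, hr, s, hs, e⟩ := odd_pow D H (mem_centralizer_singleton_iff.2 hxz.eq) hxt
  have hrK : r ∈ K := by rw [P.sup]; exact le_iSup P.Rk 0 (P.Rk_zero.symm ▸ hr)
  have hy : q * s ∈ K := by
    have h1 : x ^ 3 * r⁻¹ = q * s := by
      rw [e, mul_assoc q r s, (D.R_comm r hr s hs).eq, ← mul_assoc, mul_inv_cancel_right]
    rw [← h1]
    exact mul_mem (pow_mem hx 3) (inv_mem hrK)
  have hyz : q * s ∈ centralizer ({z} : Set G) := mul_mem (H.le (D.le 1 hq)) (D.R_le 1 hs)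
  have hone : ∀ w ∈ K, w ∈ Q → w = 1 := fun w hwK hwQ => orderOf_eq_one_iff.1 <| by
    refine Nat.eq_one_of_dvd_coprimes (show Nat.Coprime (2 ^ 9) 3 by norm_num) ?_
      (orderOf_dvd_of_pow_eq_one (D.cube w hwQ))
    rw [← P.card]
    exact Subgroup.orderOf_dvd_natCard _ hwK
  have hcomm : ∀ w ∈ D.Qi 1, Commute (q * s) w := fun w hw => by
    have hK : q * s * w * (q * s)⁻¹ * w⁻¹ ∈ K := by
      rw [show q * s * w * (q * s)⁻¹ * w⁻¹ = q * s * (w * (q * s)⁻¹ * w⁻¹) by group]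
      exact mul_mem hy (L_norm P (Qi1_L P hw H) (inv_mem hy))
    have hQ : q * s * w * (q * s)⁻¹ * w⁻¹ ∈ Q :=
      mul_mem ((mem_normalizer_iff.1 (H.normal hyz) w).1 (D.le 1 hw)) (inv_mem (D.le 1 hw))
    exact mul_inv_eq_iff_eq_mul.1 (mul_inv_eq_one.1 (hone _ hK hQ))
  have hs1 : s = 1 := by
    obtain ⟨w, hw, hwz⟩ := block_ne D 1
    refine D.faith 1 s hs w hw hwz ?_
    have h1 := (hcomm w hw).eq
    have h2 : s * w * s⁻¹ = q⁻¹ * w * q := by
      calc s * w * s⁻¹ = q⁻¹ * (q * s * w) * s⁻¹ := by group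
        _ = q⁻¹ * (w * (q * s)) * s⁻¹ := by rw [h1]
        _ = q⁻¹ * w * q := by group
    rw [h2]
    simpa using comm_mem_z H (inv_mem (D.le 1 hq)) (D.le 1 hw)
  subst hs1
  rw [mul_one] at hy e
  rw [hone q hy (D.le 1 hq), one_mul] at e
  have hcop : (orderOf x).Coprime 3 := by
    refine Nat.Coprime.coprime_dvd_left ?_ (show Nat.Coprime (2 ^ 9) 3 by norm_num)
    rw [← P.card]
    exact Subgroup.orderOf_dvd_natCard _ hx
  obtain ⟨m, hm⟩ := exists_pow_eq_self_of_coprime hcop.symm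
  rw [← hm, e]
  exact pow_mem hr m

theorem Rk_le_K (k : Fin 4) : P.Rk k ≤ K := (le_iSup P.Rk k).trans P.sup.ge

theorem R0_K {r : G} (hr : r ∈ D.R 0) : r ∈ K := by
  rw [P.sup]; exact le_iSup P.Rk 0 (P.Rk_zero.symm ▸ hr)

/-- The quaternion group at a point is the image of the first one. -/
theorem mem_Rk_iff (H : Hyp z Q) (k : Fin 4) {x : G} :
    x ∈ P.Rk k ↔ (mv D k)⁻¹ * x * mv D k ∈ D.R 0 := by
  have hle : P.Rk k ≤ cj (mv D k) (D.R 0) := fun x hx => mem_cj.2 <| K_cent_z P H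
    (by
      have := L_norm P (inv_mem (mv_L P k)) (Rk_le_K P k hx)
      rwa [inv_inv] at this)
    (mv_conj D k (P.cent_pt k x hx))
  have hcard : Nat.card ↥(cj (mv D k) (D.R 0)) ≤ Nat.card ↥(P.Rk k) := by
    obtain ⟨e⟩ := P.quat k
    rw [cj_card, (cover_R D 0).2.1, Nat.card_congr e.toEquiv, Nat.card_eq_fintype_card,
      QuaternionGroup.card]
  rw [eq_of_le_of_card_ge hle hcard, mem_cj]

/-- The quaternion group at a point is the centraliser of the point in `K`. -/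
theorem mem_Rk (H : Hyp z Q) (k : Fin 4) {x : G} : x ∈ P.Rk k ↔ x ∈ K ∧ Commute x (D.pt k) := by
  refine ⟨fun hx => ⟨Rk_le_K P k hx, P.cent_pt k x hx⟩, fun ⟨hx, hc⟩ => ?_⟩
  rw [mem_Rk_iff P H]
  refine K_cent_z P H ?_ (mv_conj D k hc)
  have := L_norm P (inv_mem (mv_L P k)) hx
  rwa [inv_inv] at this

/-- An element of `L` commuting with a point normalises its quaternion group. -/
theorem Rk_conj (H : Hyp z Q) {k : Fin 4} {l x : G} (hl : l ∈ L) (hlp : Commute l (D.pt k))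
    (hx : x ∈ P.Rk k) : l * x * l⁻¹ ∈ P.Rk k := by
  obtain ⟨hxK, hxc⟩ := (mem_Rk P H k).1 hx
  refine (mem_Rk P H k).2 ⟨L_norm P hl hxK, ?_⟩
  have := hxc.map (MulAut.conj l).toMonoidHom
  simp only [MulEquiv.coe_toMonoidHom, MulAut.conj_apply] at this
  rwa [hlp.eq, mul_inv_cancel_right] at this

theorem cover_Rk (H : Hyp z Q) (k : Fin 4) : Cover (D.t 0) (P.Rk k) := by
  have hn : Commute (mv D k) (D.t 0) := L_comm P (mv_L P k)
  have hC := (cover_R D 0).1
  set n := mv D k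
  have hback : ∀ {y c : G}, n⁻¹ * y * n = c → y = n * c * n⁻¹ := fun {y c} e => by rw [← e]; group
  have hnt : n * D.t 0 * n⁻¹ = D.t 0 := by rw [hn.eq, mul_inv_cancel_right]
  refine ⟨(mem_Rk P H k).2 ⟨P.mem, (pt_comm_t D k).symm⟩, fun a ha => ?_, fun a ha => ?_, fun a ha hc => ?_⟩
  · rcases hC.sq _ ((mem_Rk_iff P H k).1 ha) with e | e <;>
      rw [show n⁻¹ * a * n * (n⁻¹ * a * n) = n⁻¹ * (a * a) * n by group] at e
    · exact Or.inl (by rw [hback e]; group)
    · exact Or.inr (by rw [hback e, hnt])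
  · exact mem_centralizer_singleton_iff.1 (P.le ((mem_Rk P H k).1 ha).1)
  · rcases hC.centre _ ((mem_Rk_iff P H k).1 ha) (fun b hb => by
      have hb' : n * b * n⁻¹ ∈ P.Rk k := (mem_Rk_iff P H k).2 (by
        rwa [show n⁻¹ * (n * b * n⁻¹) * n = b by group])
      have := (hc _ hb').map (MulAut.conj n⁻¹).toMonoidHom
      simp only [MulEquiv.coe_toMonoidHom, MulAut.conj_apply, inv_inv] at this
      rwa [show n⁻¹ * (n * b * n⁻¹) * n = b by group] at this) with e | e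
    · exact Or.inl (by rw [hback e]; group)
    · exact Or.inr (by rw [hback e, hnt])

/-- A commuting element of a quaternion group is a power of a given one of order four. -/
theorem Rk_comm_cases (H : Hyp z Q) (k : Fin 4) {a b : G} (ha : a ∈ P.Rk k) (ha2 : a * a = D.t 0)
    (hb : b ∈ P.Rk k) (h : Commute b a) :
    b = 1 ∨ b = a ∨ b = a * a ∨ b = a * a * a := by
  have hback : ∀ {y c : G}, (mv D k)⁻¹ * y * (mv D k) = c → y = (mv D k) * c * (mv D k)⁻¹ := fun {y c} e => by rw [← e]; group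
  have ha' := (mem_Rk_iff P H k).1 ha
  have hne : (mv D k)⁻¹ * a * (mv D k) * ((mv D k)⁻¹ * a * (mv D k)) ≠ 1 := fun e => by
    rw [show (mv D k)⁻¹ * a * (mv D k) * ((mv D k)⁻¹ * a * (mv D k)) = (mv D k)⁻¹ * (a * a) * (mv D k) by group, ha2] at e
    exact t_ne D 0 (by rw [hback e]; group)
  have hc := h.map (MulAut.conj (mv D k)⁻¹).toMonoidHom
  simp only [MulEquiv.coe_toMonoidHom, MulAut.conj_apply, inv_inv] at hc
  rcases (cover_R D 0).2.2.2.2 _ ha' hne _ ((mem_Rk_iff P H k).1 hb) hc with e | e | e | e <;>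
    rw [hback e]
  · left; group
  · right; left; group
  · right; right; left; group
  · right; right; right; group

/-- A point moves the quaternion groups of the other points. -/
theorem free (H : Hyp z Q) {i k : Fin 4} (hik : i ≠ k) {x : G} (hx : x ∈ P.Rk k)
    (hc : Commute x (D.pt i)) : x = 1 ∨ x = D.t 0 :=
  (cover_Rk P H k).centre x hx fun y hy =>
    P.comm i k hik x ((mem_Rk P H i).2 ⟨((mem_Rk P H k).1 hx).1, hc⟩) y hy

theorem K_cover (H : Hyp z Q) : Cover (D.t 0) K := by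
  have h := four (q := P.Rk) (t_ne D 0) (t_sq D 0) (cover_Rk P H) (fun i => by
    obtain ⟨e⟩ := P.quat i
    rw [Nat.card_congr e.toEquiv, Nat.card_eq_fintype_card, QuaternionGroup.card])
    ⟨0, by rw [P.Rk_zero]; exact (cover_R D 0).2.2.1⟩ fun i k hik => P.comm i k hik
  rw [P.sup]
  exact h.1

end Cfsg.Agent.U62Three.K.Co
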