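import Cfsg.Agent.U62Three.K.Code.Lemmas

/-!
# Codes that respect the four planes
-/

set_option autoImplicit false
set_option maxRecDepth 100000
set_option maxHeartbeats 1000000

namespace Cfsg.Agent.U62Three.K.Co

open U62Rec K.Code

local notation "⊚" => U62Rec.cmp

/-- The first unit vector of plane `k`. -/
def ev (k : Fin 4) : ℕ := 2 ^ (2 * (k : ℕ))

/-- The second unit vector of plane `k`. -/
def ov (k : Fin 4) : ℕ := 2 ^ (2 * (k : ℕ) + 1)

/-- Being a vector of plane `k`. -/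
def InPl (k : Fin 4) (v : ℕ) : Prop := v = 0 ∨ v = ev k ∨ v = ov k ∨ v = ev k ^^^ ov k

/-- Having no component in plane `k`. -/
def OutPl (k : Fin 4) (v : ℕ) : Bool := Nat.beq (Nat.land v (ev k ^^^ ov k)) 0

/-- A power of the scalar on a vector. -/
def omp (a : Fin 3) (v : ℕ) : ℕ := (omv^[(a : ℕ)]) v

/-- The code acting on plane `k` as the power `a k` of the scalar. -/
def dg (a : Fin 4 → Fin 3) : ℕ :=
  linc (omp (a 0) 1) (omp (a 1) 4) (omp (a 2) 16) (omp (a 3) 64)

theorem ev_lt : ∀ k : Fin 4, ev k < 256 ∧ ov k < 256 ∧ omv (ev k) = ov k ∧ omv (ov k) = ev k ^^^ ov k ∧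
    omv (ev k ^^^ ov k) = ev k ∧ ev k ^^^ ov k < 256 := by decide +kernel

theorem inPl_lt {k : Fin 4} {v : ℕ} (h : InPl k v) : v < 256 := by
  obtain ⟨h1, h2, -, -, -, h6⟩ := ev_lt k
  rcases h with rfl | rfl | rfl | rfl <;> omega

/-- Two codes agreeing on the eight unit vectors are equal. -/
theorem ext_units {m n : ℕ} (hm : IsCode m) (hn : IsCode n) (he : ∀ k, app m (ev k) = app n (ev k))
    (ho : ∀ k, app m (ov k) = app n (ov k)) : m = n := by
  obtain ⟨a0, a1, a2, a3, a4, a5, a6, a7⟩ := app_unit m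
  obtain ⟨b0, b1, b2, b3, b4, b5, b6, b7⟩ := app_unit n
  have h0 : app m 1 = app n 1 := he 0
  have h1 : app m 2 = app n 2 := ho 0
  have h2 : app m 4 = app n 4 := he 1
  have h3 : app m 8 = app n 8 := ho 1
  have h4 : app m 16 = app n 16 := he 2
  have h5 : app m 32 = app n 32 := ho 2
  have h6 : app m 64 = app n 64 := he 3
  have h7 : app m 128 = app n 128 := ho 3
  rw [← pack_byte hm, ← pack_byte hn, ← a0, ← a1, ← a2, ← a3, ← a4, ← a5, ← a6, ← a7,
    h0, h1, h2, h3, h4, h5, h6, h7, b0, b1, b2, b3, b4, b5, b6, b7]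

theorem omv_eq (v : ℕ) : omv v = app gOm v := rfl

/-- Commuting with the scalar on the unit vectors. -/
theorem isLin_of_units {c : ℕ} (he : ∀ k, app c (omv (ev k)) = omv (app c (ev k)))
    (ho : ∀ k, app c (omv (ov k)) = omv (app c (ov k))) : IsLin c :=
  ext_units (isCode_cmp _ _) (isCode_cmp _ _)
    (fun k => by rw [app_cmp, app_cmp, ← omv_eq, ← omv_eq, he])
    (fun k => by rw [app_cmp, app_cmp, ← omv_eq, ← omv_eq, ho])

/-- Inverting the scalar on the unit vectors. -/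
theorem anti_of_units {c : ℕ} (he : ∀ k, app c (omv (ev k)) = omv (omv (app c (ev k))))
    (ho : ∀ k, app c (omv (ov k)) = omv (omv (app c (ov k)))) : ⊚ c gOm = ⊚ (⊚ gOm gOm) c :=
  ext_units (isCode_cmp _ _) (isCode_cmp _ _)
    (fun k => by rw [app_cmp, app_cmp, app_cmp, ← omv_eq, ← omv_eq, ← omv_eq, he])
    (fun k => by rw [app_cmp, app_cmp, app_cmp, ← omv_eq, ← omv_eq, ← omv_eq, ho])

theorem isCode_gPt : ∀ i, IsCode (gPt i) := fun i => (good_gensS _ (by fin_cases i <;> simp [gensS])).1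

theorem lin_gPt : ∀ i, ⊚ (gPt i) gOm = ⊚ gOm (gPt i) := by decide +kernel

theorem gPt_tab : ∀ i k : Fin 4,
    app (gPt i) (ev k) = (if k = i then ev k else ov k) ∧
    app (gPt i) (ov k) = (if k = i then ov k else ev k ^^^ ov k) := by decide +kernel

theorem gPt_dg : ∀ i, gPt i = dg fun k => if k = i then 0 else 1 := by decide +kernel

theorem ev_ne : ∀ k : Fin 4, ev k ≠ ov k ∧ ev k ≠ 0 := by decide +kernel

theorem fix_table : ∀ i : Fin 4, ∀ v < 256, Nat.beq (app (gPt i) v) v = true →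
    Nat.beq v 0 = true ∨ Nat.beq v (ev i) = true ∨ Nat.beq v (ov i) = true ∨
      Nat.beq v (ev i ^^^ ov i) = true := by decide +kernel

/-- The fixed vectors of a point are its plane. -/
theorem inPl_of_fix {i : Fin 4} {v : ℕ} (hv : v < 256) (h : app (gPt i) v = v) : InPl i v := by
  rcases fix_table i v hv (by simp [h]) with e | e | e | e
  · exact Or.inl (Nat.eq_of_beq_eq_true e)
  · exact Or.inr (Or.inl (Nat.eq_of_beq_eq_true e))
  · exact Or.inr (Or.inr (Or.inl (Nat.eq_of_beq_eq_true e)))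
  · exact Or.inr (Or.inr (Or.inr (Nat.eq_of_beq_eq_true e)))

theorem omp_tab : ∀ k : Fin 4, ∀ a : Fin 3,
    (∀ b : Fin 3, omp a (ev k) = omp b (ev k) → a = b) ∧
    omp 0 (ev k) = ev k ∧ omp 1 (ev k) = ov k ∧ omp 2 (ev k) = ev k ^^^ ov k := by decide +kernel

theorem dg_tab : ∀ a0 a1 a2 a3 : Fin 3, ∀ k : Fin 4,
    app (dg ![a0, a1, a2, a3]) (ev k) = omp (![a0, a1, a2, a3] k) (ev k) ∧
    app (dg ![a0, a1, a2, a3]) (ov k) = omp (![a0, a1, a2, a3] k) (ov k) ∧
    app (dg ![a0, a1, a2, a3]) (ev k ^^^ ov k) = omp (![a0, a1, a2, a3] k) (ev k ^^^ ov k) := by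
  decide +kernel

theorem vec_eta {α : Type*} (a : Fin 4 → α) : ![a 0, a 1, a 2, a 3] = a := by
  funext k; fin_cases k <;> rfl

/-- The action of a diagonal code on its planes. -/
theorem app_dg (a : Fin 4 → Fin 3) {k : Fin 4} {v : ℕ} (hv : InPl k v) :
    app (dg a) v = omp (a k) v := by
  have h := dg_tab (a 0) (a 1) (a 2) (a 3) k
  rw [vec_eta] at h
  rcases hv with rfl | rfl | rfl | rfl
  · rw [app_zero]
    exact (Function.iterate_fixed (show omv 0 = 0 from app_zero _) _).symm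
  exacts [h.1, h.2.1, h.2.2]

theorem isCode_dg (a : Fin 4 → Fin 3) : IsCode (dg a) := by
  have h : ∀ (b : Fin 3) {v : ℕ}, v < 256 → omp b v < 256 := by
    intro b v hv
    fin_cases b
    · exact hv
    · exact app_lt _ _
    · exact app_lt _ _
  exact isCode_linc (h _ (by norm_num)) (h _ (by norm_num)) (h _ (by norm_num)) (h _ (by norm_num))

theorem fv_plane_tab : ∀ k : Fin 4, ∀ v < 256,
    ((List.finRange 4).all fun i => Nat.beq (i : ℕ) k || (!fv v (ev i) && !fv v (ov i))) = true →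
    Nat.beq v 0 = true ∨ Nat.beq v (ev k) = true ∨ Nat.beq v (ov k) = true ∨
      Nat.beq v (ev k ^^^ ov k) = true := by decide +kernel

/-- A vector orthogonal to the other planes lies in plane `k`. -/
theorem inPl_of_orth {k : Fin 4} {v : ℕ} (hv : v < 256)
    (h : ∀ i, i ≠ k → fv v (ev i) = false ∧ fv v (ov i) = false) : InPl k v := by
  rcases fv_plane_tab k v hv (by
    rw [List.all_eq_true]
    intro i _
    rcases eq_or_ne i k with rfl | hne
    · simp
    · simp [h i hne]) with e | e | e | e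
  · exact Or.inl (Nat.eq_of_beq_eq_true e)
  · exact Or.inr (Or.inl (Nat.eq_of_beq_eq_true e))
  · exact Or.inr (Or.inr (Or.inl (Nat.eq_of_beq_eq_true e)))
  · exact Or.inr (Or.inr (Or.inr (Nat.eq_of_beq_eq_true e)))

theorem omp_add : ∀ a b : Fin 3, ∀ k : Fin 4, omp a (omp b (ev k)) = omp (a + b) (ev k) ∧
    InPl k (omp a (ev k)) ∧ omp a (ov k) = omv (omp a (ev k)) ∧
    omp a (ev k ^^^ ov k) = omv (omp a (ov k)) := by
  unfold InPl
  decide +kernel

theorem plane_perm : ∀ k : Fin 4, ∀ p q : Fin 4,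
    let w : Fin 4 → ℕ := ![0, ev k, ov k, ev k ^^^ ov k]
    let f : ℕ → ℕ := fun v => if v = ev k then w p else if v = ov k then w q
      else if v = ev k ^^^ ov k then w p ^^^ w q else 0
    f (f (f (ev k))) = ev k → f (f (f (ov k))) = ov k →
      ∃ a : Fin 3, w p = omp a (ev k) ∧ w q = omp a (ov k) := by
  decide +kernel

/-- A code mapping a plane to itself whose cube fixes it acts there as a power of the scalar. -/
theorem plane_rot {c : ℕ} (k : Fin 4) (he : InPl k (app c (ev k))) (ho : InPl k (app c (ov k)))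
    (h3e : app c (app c (app c (ev k))) = ev k) (h3o : app c (app c (app c (ov k))) = ov k) :
    ∃ a : Fin 3, app c (ev k) = omp a (ev k) ∧ app c (ov k) = omp a (ov k) := by
  set w : Fin 4 → ℕ := ![0, ev k, ov k, ev k ^^^ ov k] with hw
  have hidx : ∀ v, InPl k v → ∃ p, v = w p := by
    rintro v (rfl | rfl | rfl | rfl)
    exacts [⟨0, rfl⟩, ⟨1, rfl⟩, ⟨2, rfl⟩, ⟨3, rfl⟩]
  obtain ⟨p, hp⟩ := hidx _ he
  obtain ⟨q, hq⟩ := hidx _ ho
  have hne : ∀ j : Fin 4, ev j ≠ ov j ∧ ev j ≠ ev j ^^^ ov j ∧ ov j ≠ ev j ^^^ ov j ∧ ev j ≠ 0 ∧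
      ov j ≠ 0 ∧ ev j ^^^ ov j ≠ 0 := by decide +kernel
  obtain ⟨n1, n2, n3, n4, n5, n6⟩ := hne k
  set f : ℕ → ℕ := fun v => if v = ev k then w p else if v = ov k then w q
    else if v = ev k ^^^ ov k then w p ^^^ w q else 0 with hfd
  have hf : ∀ v, InPl k v → app c v = f v ∧ InPl k (app c v) := by
    have hx : InPl k (w p ^^^ w q) := by
      rcases hp ▸ he with e | e | e | e <;> rcases hq ▸ ho with e' | e' | e' | e' <;> rw [e, e'] <;>
        simp [InPl, Nat.xor_comm]
    rw [hfd]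
    rintro v (rfl | rfl | rfl | rfl) <;> beta_reduce
    · rw [if_neg (Ne.symm n4), if_neg (Ne.symm n5), if_neg (Ne.symm n6), app_zero]
      exact ⟨rfl, Or.inl rfl⟩
    · rw [if_pos rfl]; exact ⟨hp, he⟩
    · rw [if_neg (Ne.symm n1), if_pos rfl]; exact ⟨hq, ho⟩
    · rw [if_neg (Ne.symm n2), if_neg (Ne.symm n3), if_pos rfl, app_xor, hp, hq]
      exact ⟨rfl, hx⟩
  have hcube : ∀ v, InPl k v → app c (app c (app c v)) = v → f (f (f v)) = v := by
    intro v hv h3
    rw [← (hf v hv).1, ← (hf _ (hf v hv).2).1, ← (hf _ (hf _ (hf v hv).2).2).1, h3]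
  obtain ⟨a, ha, hb⟩ := plane_perm k p q (hcube _ (Or.inr (Or.inl rfl)) h3e)
    (hcube _ (Or.inr (Or.inr (Or.inl rfl))) h3o)
  exact ⟨a, hp.trans ha, hq.trans hb⟩

/-- A code of order three respecting the planes is diagonal. -/
theorem exists_dg {c : ℕ} (hc : IsCode c) (he : ∀ k, InPl k (app c (ev k)))
    (ho : ∀ k, InPl k (app c (ov k))) (h3 : ⊚ (⊚ c c) c = idm) : ∃ a, c = dg a := by
  have key : ∀ k, ∃ a : Fin 3, app c (ev k) = omp a (ev k) ∧ app c (ov k) = omp a (ov k) := fun k =>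
    plane_rot k (he k) (ho k) (by rw [← app_cmp, ← app_cmp, h3, app_idm (ev_lt k).1])
      (by rw [← app_cmp, ← app_cmp, h3, app_idm (ev_lt k).2.1])
  choose a ha hb using key
  refine ⟨a, ext_units hc (isCode_dg a) (fun k => ?_) (fun k => ?_)⟩
  · rw [ha, app_dg a (Or.inr (Or.inl rfl))]
  · rw [hb, app_dg a (Or.inr (Or.inr (Or.inl rfl)))]

theorem sign_table : ∀ x0 y0 z0 x1 y1 z1 x2 y2 z2 x3 y3 z3 : Bool,
    let s : Bool → Fin 3 := fun b => if b then 2 else 1
    let A : Fin 4 → Fin 4 → Fin 3 := ![![0, s x0, s y0, s z0], ![s x1, 0, s y1, s z1],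
      ![s x2, s y2, 0, s z2], ![s x3, s y3, s z3, 0]]
    (∀ k : Fin 4, A (k + 1) k = 1) → (∀ k : Fin 4, A 0 k + A 1 k + A 2 k + A 3 k = 0) →
      ∀ i k : Fin 4, A i k = if k = i then 0 else 1 := by
  decide +kernel

/-- Exponents with sum zero in every plane, zero exactly on the own plane, one on the next. -/
theorem sign_rule {A : Fin 4 → Fin 4 → Fin 3} (hd : ∀ i, A i i = 0) (hne : ∀ i k, i ≠ k → A i k ≠ 0)
    (h1 : ∀ k : Fin 4, A (k + 1) k = 1) (hs : ∀ k, A 0 k + A 1 k + A 2 k + A 3 k = 0) (i k : Fin 4) :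
    A i k = if k = i then 0 else 1 := by
  have hb : ∀ a : Fin 3, a ≠ 0 → a = (fun b => if b then 2 else 1) (decide (a = 2)) := by decide
  have hA : A = ![![0, A 0 1, A 0 2, A 0 3], ![A 1 0, 0, A 1 2, A 1 3],
      ![A 2 0, A 2 1, 0, A 2 3], ![A 3 0, A 3 1, A 3 2, 0]] := by
    funext i k; fin_cases i <;> fin_cases k <;> simp [hd]
  rw [hA, hb _ (hne 0 1 (by decide)), hb _ (hne 0 2 (by decide)), hb _ (hne 0 3 (by decide)),
    hb _ (hne 1 0 (by decide)), hb _ (hne 1 2 (by decide)), hb _ (hne 1 3 (by decide)),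
    hb _ (hne 2 0 (by decide)), hb _ (hne 2 1 (by decide)), hb _ (hne 2 3 (by decide)),
    hb _ (hne 3 0 (by decide)), hb _ (hne 3 1 (by decide)), hb _ (hne 3 2 (by decide))] at h1 hs ⊢
  exact sign_table _ _ _ _ _ _ _ _ _ _ _ _ h1 hs i k

theorem out_table : ∀ i : Fin 4, ∀ v < 256,
    OutPl i (v ^^^ app (gPt i) v) = true ∧ (OutPl i v = true → Nat.beq (app (gPt i) v) (omv v) = true) := by
  decide +kernel

theorem out_units : ∀ i k : Fin 4, k ≠ i →
    (∃ w < 256, w ^^^ app (gPt i) w = ev k) ∧ (∃ w < 256, w ^^^ app (gPt i) w = ov k) := by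
  intro i k hk
  have h : ∀ i k : Fin 4, k ≠ i →
      (ev k ^^^ ov k) ^^^ app (gPt i) (ev k ^^^ ov k) = ov k ∧ ov k ^^^ app (gPt i) (ov k) = ev k := by
    decide +kernel
  obtain ⟨h1, h2⟩ := h i k hk
  exact ⟨⟨_, (ev_lt k).2.1, h2⟩, ⟨_, (ev_lt k).2.2.2.2.2, h1⟩⟩

/-- A code commuting with a point and with the scalar on its plane commutes with the scalar. -/
theorem lin_of_point {c : ℕ} (i : Fin 4) (hc : ⊚ c (gPt i) = ⊚ (gPt i) c)
    (he : app c (ov i) = omv (app c (ev i))) (ho : app c (ev i ^^^ ov i) = omv (app c (ov i))) :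
    IsLin c := by
  have key : ∀ v w, w < 256 → w ^^^ app (gPt i) w = v → app (gPt i) v = omv v →
      app c (omv v) = omv (app c v) := by
    intro v w hw hv hP
    have hcP : app c (app (gPt i) v) = app (gPt i) (app c v) := by rw [← app_cmp, hc, app_cmp]
    have hv' : app c v = app c w ^^^ app (gPt i) (app c w) := by
      rw [← hv, app_xor, ← app_cmp c, hc, app_cmp]
    obtain ⟨h1, -⟩ := out_table i (app c w) (app_lt _ _)
    rw [← hv'] at h1
    rw [← hP, hcP, Nat.eq_of_beq_eq_true ((out_table i (app c v) (app_lt _ _)).2 h1)]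
  have hout : ∀ k, k ≠ i → app (gPt i) (ev k) = omv (ev k) ∧ app (gPt i) (ov k) = omv (ov k) := fun k hk => by
    obtain ⟨-, -, e1, e2, -⟩ := ev_lt k
    rw [(gPt_tab i k).1, (gPt_tab i k).2, if_neg hk, if_neg hk, e1, e2]
    exact ⟨rfl, rfl⟩
  refine isLin_of_units (fun k => ?_) (fun k => ?_)
  · rcases eq_or_ne k i with rfl | hk
    · rw [(ev_lt k).2.2.1, he]
    · obtain ⟨⟨w, hw, e⟩, -⟩ := out_units i k hk
      exact key _ w hw e (hout k hk).1
  · rcases eq_or_ne k i with rfl | hk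
    · rw [(ev_lt k).2.2.2.1, ho]
    · obtain ⟨-, ⟨w, hw, e⟩⟩ := out_units i k hk
      exact key _ w hw e (hout k hk).2

/-- A point or its inverse. -/
def ptE (i : Fin 4) (e : Bool) : ℕ := if e then ⊚ (gPt i) (gPt i) else gPt i

theorem ptE_tab : ∀ i k : Fin 4, ∀ e : Bool, k ≠ i →
    app (ptE i e) (ev k) = omp (if e then 2 else 1) (ev k) ∧
    app (ptE i e) (ov k) = omp (if e then 2 else 1) (ov k) := by decide +kernel

theorem ptE_inj : ∀ i j : Fin 4, ∀ e e' : Bool, ptE i e = ptE j e' → i = j := by decide +kernel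

theorem ptE_fix : ∀ i : Fin 4, app (gPt i) (ev i) = ev i ∧ app (gPt i) (ov i) = ov i := by decide +kernel

theorem fix_ptE {i : Fin 4} {e : Bool} {v : ℕ} (hv : v < 256) (h : app (ptE i e) v = v) : InPl i v := by
  refine inPl_of_fix hv ?_
  cases e
  · exact h
  · have h3' : ∀ j : Fin 4, ⊚ (⊚ (gPt j) (gPt j)) (gPt j) = idm := by decide +kernel
    calc app (gPt i) v = app (gPt i) (app (⊚ (gPt i) (gPt i)) v) := by
          rw [show app (⊚ (gPt i) (gPt i)) v = v from h]
      _ = app (⊚ (⊚ (gPt i) (gPt i)) (gPt i)) v := by simp only [app_cmp]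
      _ = v := by rw [h3' i, app_idm hv]

/-- A code permuting the points up to inversion respects the scalar up to inversion. -/
theorem semilinear_of_points {c c' : ℕ} (hcc : ⊚ c' c = idm) (m : Fin 4 → Fin 4) (e : Fin 4 → Bool)
    (h : ∀ i, ⊚ c (gPt i) = ⊚ (ptE (m i) (e i)) c) :
    ((∀ i, e i = false) ∧ IsLin c) ∨ ((∀ i, e i = true) ∧ ⊚ c gOm = ⊚ (⊚ gOm gOm) c) := by
  have hap : ∀ i v, app c (app (gPt i) v) = app (ptE (m i) (e i)) (app c v) := fun i v => by
    rw [← app_cmp, h, app_cmp]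
  have hne : ∀ v < 256, v ≠ 0 → app c v ≠ 0 := fun v hv h0 e0 => h0 (by
    rw [← app_idm hv, ← hcc, app_cmp, e0, app_zero])
  have hin : ∀ k v, InPl k v → app (gPt k) v = v → InPl (m k) (app c v) := fun k v hv hf => by
    refine fix_ptE (e := e k) (app_lt _ _) ?_
    rw [← hap, hf]
  have hev : ∀ k, InPl (m k) (app c (ev k)) ∧ InPl (m k) (app c (ov k)) := fun k =>
    ⟨hin k _ (Or.inr (Or.inl rfl)) (ptE_fix k).1, hin k _ (Or.inr (Or.inr (Or.inl rfl))) (ptE_fix k).2⟩
  have minj : ∀ i j, m i = m j → i = j := by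
    intro i j hij
    by_contra hne'
    have hi := (ev_lt i).1
    have e1 : app c (app (gPt j) (ev i)) = app (ptE (m i) (e j)) (app c (ev i)) := by rw [hap, hij]
    have e2 : app (ptE (m i) (e j)) (app c (ev i)) = app c (ev i) := by
      have fix : ∀ (k : Fin 4) (b : Bool), app (ptE k b) (ev k) = ev k ∧ app (ptE k b) (ov k) = ov k ∧
          app (ptE k b) (ev k ^^^ ov k) = ev k ^^^ ov k := by decide +kernel
      rcases (hev i).1 with e' | e' | e' | e' <;> rw [e']
      · exact app_zero _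
      · exact (fix _ _).1
      · exact (fix _ _).2.1
      · exact (fix _ _).2.2
    rw [e2, (gPt_tab j i).1, if_neg hne'] at e1
    have h2 := congrArg (app c') e1
    rw [← app_cmp, ← app_cmp, hcc, app_idm (ev_lt i).2.1, app_idm hi] at h2
    exact ev_ne i |>.1 h2.symm
  have hact : ∀ i k, i ≠ k → app c (omv (ev k)) = omp (if e i then 2 else 1) (app c (ev k)) ∧
      app c (omv (ov k)) = omp (if e i then 2 else 1) (app c (ov k)) := by
    intro i k hik
    have hmm : m k ≠ m i := fun e' => hik (minj _ _ e').symm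
    have hom : ∀ v, InPl (m k) v → app (ptE (m i) (e i)) v = omp (if e i then 2 else 1) v := by
      intro v hv
      obtain ⟨p1, p2⟩ := ptE_tab (m i) (m k) (e i) hmm
      rcases hv with rfl | rfl | rfl | rfl
      · rw [app_zero]
        exact (Function.iterate_fixed (show omv 0 = 0 from app_zero _) _).symm
      · exact p1
      · exact p2
      · rw [app_xor, p1, p2]
        cases e i
        · exact (app_xor _ _ _).symm
        · show omv (omv _) ^^^ omv (omv _) = omv (omv _)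
          rw [omv_eq (omv (ev _ ^^^ _)), omv_eq (ev _ ^^^ _), app_xor, app_xor]
          rfl
    obtain ⟨-, -, q1, q2, -⟩ := ev_lt k
    obtain ⟨g1, g2⟩ := gPt_tab i k
    rw [if_neg (Ne.symm hik)] at g1 g2
    constructor
    · rw [q1, ← g1, hap, hom _ (hev k).1]
    · rw [q2, ← g2, hap, hom _ (hev k).2]
  have hall : ∀ i j, e i = e j := by
    intro i j
    obtain ⟨k, hki, hkj⟩ : ∃ k : Fin 4, k ≠ i ∧ k ≠ j := by
      revert i j; decide
    have h1 := (hact i k hki.symm).1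
    rw [(hact j k hkj.symm).1] at h1
    have hu := (hev k).1
    have hu0 := hne _ (ev_lt k).1 (ev_ne k).2
    have sep : ∀ (p : Fin 4) (a b : Bool), ∀ v ∈ [ev p, ov p, ev p ^^^ ov p],
        omp (if a then 2 else 1) v = omp (if b then 2 else 1) v → a = b := by decide +kernel
    exact (sep (m k) _ _ _ (by rcases hu with h0 | h0 | h0 | h0 <;> simp_all) h1.symm)
  cases he : e 0
  · refine Or.inl ⟨fun i => (hall i 0).trans he, isLin_of_units (fun k => ?_) (fun k => ?_)⟩ <;>
    · obtain ⟨i, hi⟩ : ∃ i : Fin 4, i ≠ k := ⟨k + 1, by revert k; decide⟩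
      first
        | (have := (hact i k hi).1; rwa [(hall i 0).trans he] at this)
        | (have := (hact i k hi).2; rwa [(hall i 0).trans he] at this)
  · refine Or.inr ⟨fun i => (hall i 0).trans he, anti_of_units (fun k => ?_) (fun k => ?_)⟩ <;>
    · obtain ⟨i, hi⟩ : ∃ i : Fin 4, i ≠ k := ⟨k + 1, by revert k; decide⟩
      first
        | (have := (hact i k hi).1; rwa [(hall i 0).trans he] at this)
        | (have := (hact i k hi).2; rwa [(hall i 0).trans he] at this)

end Cfsg.Agent.U62Three.K.Co
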