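import Cfsg.Agent.U62Three.K.Co.Local
import Cfsg.Agent.U62Three.K.Co.Planes
import Cfsg.Agent.U62Three.K.Co.Basis

/-!
# The basis of a prepared centraliser and the codes of the points
-/

set_option autoImplicit false
set_option linter.unusedSectionVars false
set_option maxRecDepth 100000

open Subgroup
open scoped commutatorElement

namespace Cfsg.Agent.U62Three.K.Co

open U62Rec K.Code

local notation "⊚" => U62Rec.cmp

universe u

variable {G : Type u} [Group G] [Finite G] {z : G} {Q : Subgroup G} {D : Facts z Q} {K Z3 L : Subgroup G}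
  (P : Prep D K Z3 L) (H : Hyp z Q)

theorem exists_four (D : Facts z Q) (i : Fin 2) : ∃ a ∈ D.R i, a * a = D.t i := by
  obtain ⟨a, ha, b, hb, hab⟩ := (cover_R D i).2.2.1
  refine ⟨a, ha, ((cover_R D i).1.sq a ha).resolve_left fun h => hab ?_⟩
  rcases (cover_R D i).2.2.2.1 a ha h with rfl | rfl
  · rw [one_mul, mul_one]
  · exact ((cover_R D i).1.central b hb).eq.symm

/-- An element of order four of the first quaternion group. -/
noncomputable def four0 (D : Facts z Q) (i : Fin 2) : G := (exists_four D i).choose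

theorem four0_mem (D : Facts z Q) (i : Fin 2) : four0 D i ∈ D.R i := (exists_four D i).choose_spec.1

theorem four0_sq (D : Facts z Q) (i : Fin 2) : four0 D i * four0 D i = D.t i :=
  (exists_four D i).choose_spec.2

/-- The first vector at a point. -/
noncomputable def eG (D : Facts z Q) (k : Fin 4) : G := mv D k * four0 D 0 * (mv D k)⁻¹

/-- The second vector at a point. -/
noncomputable def oG (D : Facts z Q) (k : Fin 4) : G := D.pt (k + 1) * eG D k * (D.pt (k + 1))⁻¹

/-- The eight vectors. -/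
noncomputable def bb (D : Facts z Q) : Fin 8 → G :=
  ![eG D 0, oG D 0, eG D 1, oG D 1, eG D 2, oG D 2, eG D 3, oG D 3]

/-- The index of the first vector at a point. -/
def idxE (k : Fin 4) : Fin 8 := ⟨2 * (k : ℕ), by omega⟩

/-- The index of the second vector at a point. -/
def idxO (k : Fin 4) : Fin 8 := ⟨2 * (k : ℕ) + 1, by omega⟩

theorem bb_idx (D : Facts z Q) (k : Fin 4) : bb D (idxE k) = eG D k ∧ bb D (idxO k) = oG D k := by
  fin_cases k <;> exact ⟨rfl, rfl⟩

theorem idx_cases : ∀ i : Fin 8, ∃ k, i = idxE k ∨ i = idxO k := by decide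

include P

theorem eG_mem (H : Hyp z Q) (k : Fin 4) : eG D k ∈ P.Rk k :=
  (mem_Rk_iff P H k).2 (by
    rw [eG, show (mv D k)⁻¹ * (mv D k * four0 D 0 * (mv D k)⁻¹) * mv D k = four0 D 0 by group]
    exact four0_mem D 0)

omit P in
theorem pt_commute (D : Facts z Q) (i k : Fin 4) : Commute (D.pt i) (D.pt k) :=
  frame_commute (pt_mem_J D i) (pt_mem_J D k)

theorem oG_mem (H : Hyp z Q) (k : Fin 4) : oG D k ∈ P.Rk k :=
  Rk_conj P H (pt_mem_L P _) (pt_commute D _ _) (eG_mem P H k)

theorem eG_sq (k : Fin 4) : eG D k * eG D k = D.t 0 := by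
  rw [eG, conj_mul, four0_sq, (L_comm P (mv_L P k)).eq, mul_inv_cancel_right]

theorem oG_sq (k : Fin 4) : oG D k * oG D k = D.t 0 := by
  rw [oG, conj_mul, eG_sq P, (pt_comm_t D (k + 1)).eq, mul_inv_cancel_right]

theorem bb_mem (H : Hyp z Q) (i : Fin 8) : bb D i ∈ K := by
  obtain ⟨k, rfl | rfl⟩ := idx_cases i
  · rw [(bb_idx D k).1]; exact ((mem_Rk P H k).1 (eG_mem P H k)).1
  · rw [(bb_idx D k).2]; exact ((mem_Rk P H k).1 (oG_mem P H k)).1

theorem eo_noncomm (H : Hyp z Q) (k : Fin 4) : ¬ Commute (eG D k) (oG D k) := by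
  intro h
  obtain ⟨p, hp⟩ : ∃ p, D.pt (k + 1) = p := ⟨_, rfl⟩
  have he2 := eG_sq P k
  have ho2 := oG_sq P k
  have htt := t_sq D 0
  have hcom : Commute p (eG D k) := by
    have hcp : Commute p (D.t 0) := hp ▸ pt_comm_t D (k + 1)
    have key : ∀ c, Commute p c → c * c = 1 → p * eG D k * p⁻¹ = eG D k * c → c = 1 := by
      intro c hc hc2 he
      have h3 : p * p * p = 1 := hp ▸ pt_cube D (k + 1)
      have e2 : p * p * eG D k * (p * p)⁻¹ = eG D k * (c * c) := by
        calc p * p * eG D k * (p * p)⁻¹ = p * (p * eG D k * p⁻¹) * p⁻¹ := by group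
          _ = p * eG D k * p⁻¹ * (p * c * p⁻¹) := by
            conv_lhs => rw [he]
            group
          _ = eG D k * (c * c) := by rw [he, hc.eq, mul_inv_cancel_right, mul_assoc]
      have e3 : p * p * p * eG D k * (p * p * p)⁻¹ = eG D k * c := by
        calc p * p * p * eG D k * (p * p * p)⁻¹ = p * (p * p * eG D k * (p * p)⁻¹) * p⁻¹ := by group
          _ = p * eG D k * p⁻¹ := by rw [e2, hc2, mul_one]
          _ = eG D k * c := he
      rw [h3, one_mul, inv_one, mul_one] at e3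
      exact left_eq_mul.1 e3
    have ho : oG D k = p * eG D k * p⁻¹ := by rw [oG, hp]
    rcases Rk_comm_cases P H k (eG_mem P H k) he2 (oG_mem P H k) h.symm with e | e | e | e
    · rw [e, one_mul] at ho2; exact absurd ho2.symm (t_ne D 0)
    · exact mul_inv_eq_iff_eq_mul.1 (ho.symm.trans e)
    · rw [e, he2, htt] at ho2; exact absurd ho2.symm (t_ne D 0)
    · have := key (D.t 0) hcp htt (by
        rw [← ho, e, he2, ((cover_Rk P H k).central _ (eG_mem P H k)).eq])
      exact absurd this (t_ne D 0)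
  have hne' : ∀ j : Fin 4, j + 1 ≠ j := by decide
  have hne := hne' k
  rcases free P H hne (eG_mem P H k) (hp ▸ hcom.symm) with e | e
  · rw [e, one_mul] at he2; exact t_ne D 0 he2.symm
  · rw [e, htt] at he2; exact t_ne D 0 he2.symm

theorem bb_comm (H : Hyp z Q) (i j : Fin 8) :
    Commute (bb D i) (bb D j) ↔ fv (2 ^ (i : ℕ)) (2 ^ (j : ℕ)) = false := by
  have tab : ∀ k l : Fin 4, fv (2 ^ (idxE k : ℕ)) (2 ^ (idxE l : ℕ)) = false ∧
      fv (2 ^ (idxO k : ℕ)) (2 ^ (idxO l : ℕ)) = false ∧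
      fv (2 ^ (idxE k : ℕ)) (2 ^ (idxO l : ℕ)) = decide (k = l) ∧
      fv (2 ^ (idxO k : ℕ)) (2 ^ (idxE l : ℕ)) = decide (k = l) := by decide +kernel
  have hc : ∀ k l : Fin 4, k ≠ l → ∀ x ∈ P.Rk k, ∀ y ∈ P.Rk l, Commute x y := P.comm
  obtain ⟨k, rfl | rfl⟩ := idx_cases i <;> obtain ⟨l, rfl | rfl⟩ := idx_cases j <;>
    simp only [(bb_idx D _).1, (bb_idx D _).2]
  · rw [(tab k l).1]
    simp only [iff_true]
    rcases eq_or_ne k l with rfl | hne
    · exact Commute.refl _
    · exact hc k l hne _ (eG_mem P H k) _ (eG_mem P H l)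
  · rw [(tab k l).2.2.1]
    rcases eq_or_ne k l with rfl | hne
    · simpa using eo_noncomm P H k
    · simpa [hne] using hc k l hne _ (eG_mem P H k) _ (oG_mem P H l)
  · rw [(tab k l).2.2.2]
    rcases eq_or_ne k l with rfl | hne
    · simpa using fun h : Commute (oG D k) (eG D k) => eo_noncomm P H k h.symm
    · simpa [hne] using hc k l hne _ (oG_mem P H k) _ (eG_mem P H l)
  · rw [(tab k l).2.1]
    simp only [iff_true]
    rcases eq_or_ne k l with rfl | hne
    · exact Commute.refl _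
    · exact hc k l hne _ (oG_mem P H k) _ (oG_mem P H l)

/-- The eight vectors form a standard basis. -/
theorem bas (H : Hyp z Q) : Bas (D.t 0) K (bb D) where
  ot := t_ne D 0
  t2 := t_sq D 0
  cover := K_cover P H
  card := P.card
  mem := bb_mem P H
  sq i := by
    obtain ⟨k, rfl | rfl⟩ := idx_cases i
    · rw [(bb_idx D k).1]; exact eG_sq P k
    · rw [(bb_idx D k).2]; exact oG_sq P k
  comm := bb_comm P H

/-- The coordinates. -/
noncomputable abbrev cw (D : Facts z Q) (x : G) : ℕ := co (bb D) x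

/-- The code of an element. -/
noncomputable abbrev code (D : Facts z Q) (g : G) : ℕ := cd (bb D) g

theorem cw_e (H : Hyp z Q) (k : Fin 4) : cw D (eG D k) = ev k ∧ cw D (oG D k) = ov k :=
  ⟨by rw [← (bb_idx D k).1]; exact (bas P H).co_b _, by rw [← (bb_idx D k).2]; exact (bas P H).co_b _⟩

theorem cw_plane (H : Hyp z Q) {k : Fin 4} {x : G} (hx : x ∈ P.Rk k) : InPl k (cw D x) := by
  refine inPl_of_orth (co_lt _ _) fun i hi => ?_
  have hxK := ((mem_Rk P H k).1 hx).1
  constructor
  · rw [← (cw_e P H i).1, ← (bas P H).commute_iff hxK ((mem_Rk P H i).1 (eG_mem P H i)).1]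
    exact P.comm k i (Ne.symm hi) x hx _ (eG_mem P H i)
  · rw [← (cw_e P H i).2, ← (bas P H).commute_iff hxK ((mem_Rk P H i).1 (oG_mem P H i)).1]
    exact P.comm k i (Ne.symm hi) x hx _ (oG_mem P H i)

theorem act (H : Hyp z Q) {l : G} (hl : l ∈ L) {x : G} (hx : x ∈ K) :
    cw D (l * x * l⁻¹) = app (code D l) (cw D x) :=
  (bas P H).act (L_comm P hl) (fun _ hy => L_norm P hl hy) hx

theorem code_mul (H : Hyp z Q) {l m : G} (hl : l ∈ L) (hm : m ∈ L) :
    code D (l * m) = ⊚ (code D l) (code D m) :=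
  (bas P H).cd_mul (L_comm P hl) (fun _ hy => L_norm P hl hy) (L_comm P hm) fun _ hy => L_norm P hm hy

theorem code_ker (H : Hyp z Q) {l : G} (hl : l ∈ L) : code D l = idm ↔ l ∈ K :=
  (bas P H).cd_ker (L_comm P hl) (fun _ hy => L_norm P hl hy) P.self

theorem code_one (H : Hyp z Q) : code D 1 = idm := (code_ker P H (one_mem L)).2 (one_mem K)

theorem code_inv (H : Hyp z Q) {l : G} (hl : l ∈ L) :
    ⊚ (code D l⁻¹) (code D l) = idm ∧ ⊚ (code D l) (code D l⁻¹) = idm := by
  rw [← code_mul P H (inv_mem hl) hl, ← code_mul P H hl (inv_mem hl), inv_mul_cancel, mul_inv_cancel]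
  exact ⟨code_one P H, code_one P H⟩

theorem code_cube (H : Hyp z Q) {l : G} (hl : l ∈ L) (h3 : l * l * l = 1) :
    ⊚ (⊚ (code D l) (code D l)) (code D l) = idm := by
  rw [← code_mul P H hl hl, ← code_mul P H (mul_mem hl hl) hl, h3, code_one P H]

/-- An element of `L` commuting with all points and of order three has a diagonal code. -/
theorem exists_dg_code (H : Hyp z Q) {l : G} (hl : l ∈ L) (hc : ∀ k, Commute l (D.pt k))
    (h3 : l * l * l = 1) : ∃ a, code D l = dg a := by
  refine exists_dg (isCode_cd _ _) (fun k => ?_) (fun k => ?_) (code_cube P H hl h3)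
  · rw [← (cw_e P H k).1, ← act P H hl ((mem_Rk P H k).1 (eG_mem P H k)).1]
    exact cw_plane P H (Rk_conj P H hl (hc k) (eG_mem P H k))
  · rw [← (cw_e P H k).2, ← act P H hl ((mem_Rk P H k).1 (oG_mem P H k)).1]
    exact cw_plane P H (Rk_conj P H hl (hc k) (oG_mem P H k))

/-- The code of a point. -/
theorem code_pt (H : Hyp z Q) (i : Fin 4) : code D (D.pt i) = gPt i := by
  have hA : ∀ i, ∃ a, code D (D.pt i) = dg a := fun i =>
    exists_dg_code P H (pt_mem_L P i) (fun k => pt_commute D i k) (pt_cube D i)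
  choose A hA using hA
  have hK : ∀ k, eG D k ∈ K := fun k => ((mem_Rk P H k).1 (eG_mem P H k)).1
  have happ : ∀ i k, cw D (D.pt i * eG D k * (D.pt i)⁻¹) = omp (A i k) (ev k) := fun i k => by
    rw [act P H (pt_mem_L P i) (hK k), (cw_e P H k).1, hA, app_dg _ (Or.inr (Or.inl rfl))]
  have hd : ∀ k, A k k = 0 := fun k => by
    refine (omp_tab k _).1 0 ?_
    rw [← happ, (omp_tab k 0).2.1, ((P.cent_pt k _ (eG_mem P H k)).symm).eq, mul_inv_cancel_right,
      (cw_e P H k).1]
  have hne : ∀ i k, i ≠ k → A i k ≠ 0 := by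
    intro i k hik h0
    have h1 := happ i k
    rw [h0, (omp_tab k 0).2.1, ← (cw_e P H k).1] at h1
    have hmem := (bas P H).co_inj (hK k) (L_norm P (pt_mem_L P i) (hK k)) h1.symm
    obtain ⟨p, hp⟩ : ∃ p, D.pt i = p := ⟨_, rfl⟩
    rw [hp] at hmem
    have hpt : Commute p (D.t 0) := hp ▸ pt_comm_t D i
    have h3 : p * p * p = 1 := hp ▸ pt_cube D i
    obtain ⟨c, hc⟩ : ∃ c, (eG D k)⁻¹ * (p * eG D k * p⁻¹) = c := ⟨_, rfl⟩
    rw [hc] at hmem
    have hcp : Commute p c := by
      obtain ⟨n, rfl⟩ := mem_zpowers_iff.1 hmem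
      exact hpt.zpow_right n
    have he : p * eG D k * p⁻¹ = eG D k * c := by rw [← hc]; group
    have hc2 : c * c = 1 := by
      obtain ⟨n, rfl⟩ := mem_zpowers_iff.1 hmem
      rw [← (Commute.refl (D.t 0)).mul_zpow, t_sq D 0, one_zpow]
    have hc1 : c = 1 := by
      have e2 : p * p * eG D k * (p * p)⁻¹ = eG D k := by
        calc p * p * eG D k * (p * p)⁻¹ = p * (p * eG D k * p⁻¹) * p⁻¹ := by group
          _ = p * eG D k * p⁻¹ * (p * c * p⁻¹) := by
            conv_lhs => rw [he]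
            group
          _ = eG D k := by rw [he, hcp.eq, mul_inv_cancel_right, mul_assoc, hc2, mul_one]
      have e3 : p * p * p * eG D k * (p * p * p)⁻¹ = eG D k * c := by
        calc p * p * p * eG D k * (p * p * p)⁻¹ = p * (p * p * eG D k * (p * p)⁻¹) * p⁻¹ := by group
          _ = eG D k * c := by rw [e2, he]
      rw [h3, one_mul, inv_one, mul_one] at e3
      exact left_eq_mul.1 e3
    rw [hc1, mul_one] at he
    have hcom : Commute (eG D k) (D.pt i) := hp ▸ (mul_inv_eq_iff_eq_mul.1 he : p * eG D k = eG D k * p).symm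
    have h4 := eG_sq P k
    rcases free P H hik (eG_mem P H k) hcom with e | e <;> rw [e] at h4
    · rw [one_mul] at h4; exact t_ne D 0 h4.symm
    · rw [t_sq D 0] at h4; exact t_ne D 0 h4.symm
  have h1 : ∀ k : Fin 4, A (k + 1) k = 1 := fun k => by
    refine (omp_tab k _).1 1 ?_
    rw [← happ, (omp_tab k 0).2.2.1]
    exact (cw_e P H k).2
  have hs : ∀ k, A 0 k + A 1 k + A 2 k + A 3 k = 0 := fun k => by
    have h := congrArg (fun c => app c (ev k))
      ((congrArg (code D) (pt_prod D)).trans (code_one P H))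
    simp only [code_mul P H (mul_mem (mul_mem (pt_mem_L P 0) (pt_mem_L P 1)) (pt_mem_L P 2)) (pt_mem_L P 3),
      code_mul P H (mul_mem (pt_mem_L P 0) (pt_mem_L P 1)) (pt_mem_L P 2),
      code_mul P H (pt_mem_L P 0) (pt_mem_L P 1), hA, app_cmp, app_idm (ev_lt k).1] at h
    rw [app_dg _ (Or.inr (Or.inl rfl)), app_dg _ (omp_add _ 0 k).2.1, (omp_add _ _ k).1,
      app_dg _ (omp_add _ 0 k).2.1, (omp_add _ _ k).1, app_dg _ (omp_add _ 0 k).2.1, (omp_add _ _ k).1] at h
    refine (omp_tab k _).1 0 ?_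
    rw [(omp_tab k 0).2.1]
    rw [← add_assoc, ← add_assoc] at h
    exact h
  rw [hA, gPt_dg]
  congr 1
  funext k
  exact sign_rule hd hne h1 hs i k

end Cfsg.Agent.U62Three.K.Co
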